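import Cfsg.Agent.CosetCert.Pack

/-! Generated: orbit points. -/

set_option Elab.async false

namespace Cfsg.Agent.CosetCert.Fi23H10H

def ptsStore1 : Store := (.leaf 0x49f60000f03043670000d04032430000d0300e580000b0401b5f0000a0400e270000a02037050000804001fb00006040433e000060300ca5000050304ee00000404052a000003040030f0000303020dd000030005091000020402aca00002030506900002000178200001040150300001030260500001020389a0000101016da000000400994000000300fa6000000200fe20000001034020000000001e80000000)

end Cfsg.Agent.CosetCert.Fi23H10H
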