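import Cfsg.Agent.CosetCert.Pack

/-! Generated: orbit points. -/

set_option Elab.async false

namespace Cfsg.Agent.CosetCert.Fi23H10H

def ptsStore5 : Store := (.leaf 0xca50000601050910000301043670000202016da0000102017820000101052a0000000201b5f0000001049f60000000001fb0000000)

end Cfsg.Agent.CosetCert.Fi23H10H
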