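import Cfsg.Agent.CosetCert.Pack

/-! Generated: places of orbit points. -/

set_option Elab.async false

namespace Cfsg.Agent.CosetCert.Fi23H10H

def posStore8_1 : Store := (.node 15 (.node 7 (.node 3 (.node 1 (.leaf 0x0) (.node 2 (.leaf 0x0) (.leaf 0x0))) (.node 5 (.node 4 (.leaf 0x0) (.leaf 0x0)) (.node 6 (.leaf 0x0) (.leaf 0x0)))) (.node 11 (.node 9 (.node 8 (.leaf 0x0) (.leaf 0x0)) (.node 10 (.leaf 0x0) (.leaf 0x0))) (.node 13 (.node 12 (.leaf 0x0) (.leaf 0x0)) (.node 14 (.leaf 0x0) (.leaf 0x0))))) (.node 23 (.node 19 (.node 17 (.node 16 (.leaf 0x0) (.leaf 0x0)) (.node 18 (.leaf 0x0) (.leaf 0x0))) (.node 21 (.node 20 (.leaf 0x0) (.leaf 0x0)) (.node 22 (.leaf 0x0) (.leaf 0x0)))) (.node 27 (.node 25 (.node 24 (.leaf 0x0) (.leaf 0x0)) (.node 26 (.leaf 0x0) (.leaf 0x0))) (.node 29 (.node 28 (.leaf 0x0) (.leaf 0x0)) (.node 30 (.leaf 0x0) (.leaf 0x0))))))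

def posStore8_2 : Store := (.node 46 (.node 38 (.node 34 (.node 32 (.leaf 0x0) (.node 33 (.leaf 0x0) (.leaf 0x0))) (.node 36 (.node 35 (.leaf 0x0) (.leaf 0x0)) (.node 37 (.leaf 0x0) (.leaf 0x0)))) (.node 42 (.node 40 (.node 39 (.leaf 0x0) (.leaf 0x0)) (.node 41 (.leaf 0x0) (.leaf 0x0))) (.node 44 (.node 43 (.leaf 0x0) (.leaf 0x0)) (.node 45 (.leaf 0x0) (.leaf 0x0))))) (.node 54 (.node 50 (.node 48 (.node 47 (.leaf 0x0) (.leaf 0x0)) (.node 49 (.leaf 0x0) (.leaf 0x0))) (.node 52 (.node 51 (.leaf 0x0) (.leaf 0x0)) (.node 53 (.leaf 0x0) (.leaf 0x0)))) (.node 58 (.node 56 (.node 55 (.leaf 0x0) (.leaf 0x0)) (.node 57 (.leaf 0x0) (.leaf 0x0))) (.node 60 (.node 59 (.leaf 0x0) (.leaf 0x0)) (.node 61 (.leaf 0x0) (.leaf 0x0))))))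

def posStore8_3 : Store := (.node 31 posStore8_1 posStore8_2)

def posStore8_4 : Store := (.node 77 (.node 69 (.node 65 (.node 63 (.leaf 0x0) (.node 64 (.leaf 0x0) (.leaf 0x0))) (.node 67 (.node 66 (.leaf 0x0) (.leaf 0x0)) (.node 68 (.leaf 0x0) (.leaf 0x0)))) (.node 73 (.node 71 (.node 70 (.leaf 0x0) (.leaf 0x0)) (.node 72 (.leaf 0x0) (.leaf 0x0))) (.node 75 (.node 74 (.leaf 0x0) (.leaf 0x0)) (.node 76 (.leaf 0x0) (.leaf 0x0))))) (.node 85 (.node 81 (.node 79 (.node 78 (.leaf 0x0) (.leaf 0x1000000000000000000000000000000000000000000000000000000000000000000000000000000000000000000000000000000000000000000000000000000000000000000000000000000000000000000000000000000000000000000000000000000000000000000000000000000000000000000000000000000000000000000000000000000000000000000000000000000000000000000000000000000000000000000000000000000000000000000000000000000000000000000000000000000000000000000000000000000000000000000000000000000000000000000000000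000000000000000000000000000000000000000000000000000000000000000000000000000000000000000000000000000000000000000000000000000000000000000000000000000000000000000000000000000000000000000000000000000000000000000000000000000000000000000000000000000000000000000000000000000000000000000000000000000000000000000000000000000000000000000000000000000000000000000000000000000000000000000000000000000000000000000000000000000000000000000000000000000000000000000000000000000000000000000000000000000000000000000000000000000000000000000000000000000000000000000000000000000000000000000000000000000000000000000000000000000000000000000000000000000000000000000000000000000000000000000000000000000000000000000000000000000000000000000000000000)) (.node 80 (.leaf 0x0) (.leaf 0x0))) (.node 83 (.node 82 (.leaf 0x0) (.leaf 0x0)) (.node 84 (.leaf 0x0) (.leaf 0x0)))) (.node 89 (.node 87 (.node 86 (.leaf 0x0) (.leaf 0x0)) (.node 88 (.leaf 0x0) (.leaf 0x0))) (.node 91 (.node 90 (.leaf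 0x0) (.leaf 0x0)) (.node 92 (.leaf 0x0) (.leaf 0x0))))))

def posStore8_5 : Store := (.node 108 (.node 100 (.node 96 (.node 94 (.leaf 0x0) (.node 95 (.leaf 0x0) (.leaf 0x0))) (.node 98 (.node 97 (.leaf 0x0) (.leaf 0x0)) (.node 99 (.leaf 0x0) (.leaf 0x0)))) (.node 104 (.node 102 (.node 101 (.leaf 0x0) (.leaf 0x0)) (.node 103 (.leaf 0x0) (.leaf 0x0))) (.node 106 (.node 105 (.leaf 0x0) (.leaf 0x0)) (.node 107 (.leaf 0x0) (.leaf 0x0))))) (.node 116 (.node 112 (.node 110 (.node 109 (.leaf 0x0) (.leaf 0x0)) (.node 111 (.leaf 0x0) (.leaf 0x0))) (.node 114 (.node 113 (.leaf 0x0) (.leaf 0x0)) (.node 115 (.leaf 0x0) (.leaf 0x0)))) (.node 120 (.node 118 (.node 117 (.leaf 0x0) (.leaf 0x0)) (.node 119 (.leaf 0x0) (.leaf 0x0))) (.node 122 (.node 121 (.leaf 0x0) (.leaf 0x0)) (.node 123 (.leaf 0x0) (.leaf 0x0))))))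

def posStore8_6 : Store := (.node 93 posStore8_4 posStore8_5)

def posStore8_7 : Store := (.node 62 posStore8_3 posStore8_6)

def posStore8_8 : Store := (.node 139 (.node 131 (.node 127 (.node 125 (.leaf 0x0) (.node 126 (.leaf 0x0) (.leaf 0x0))) (.node 129 (.node 128 (.leaf 0x0) (.leaf 0x0)) (.node 130 (.leaf 0x0) (.leaf 0x0)))) (.node 135 (.node 133 (.node 132 (.leaf 0x0) (.leaf 0x0)) (.node 134 (.leaf 0x0) (.leaf 0x0))) (.node 137 (.node 136 (.leaf 0x0) (.leaf 0x0)) (.node 138 (.leaf 0x0) (.leaf 0x0))))) (.node 147 (.node 143 (.node 141 (.node 140 (.leaf 0x0) (.leaf 0x0)) (.node 142 (.leaf 0x0) (.leaf 0x0))) (.node 145 (.node 144 (.leaf 0x0) (.leaf 0x0)) (.node 146 (.leaf 0x0) (.leaf 0x0)))) (.node 151 (.node 149 (.node 148 (.leaf 0x0) (.leaf 0x0)) (.node 150 (.leaf 0x0) (.leaf 0x0))) (.node 153 (.node 152 (.leaf 0x0) (.leaf 0x0)) (.node 154 (.leaf 0x0) (.leaf 0x0))))))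

def posStore8_9 : Store := (.node 170 (.node 162 (.node 158 (.node 156 (.leaf 0x0) (.node 157 (.leaf 0x0) (.leaf 0x0))) (.node 160 (.node 159 (.leaf 0x0) (.leaf 0x0)) (.node 161 (.leaf 0x0) (.leaf 0x0)))) (.node 166 (.node 164 (.node 163 (.leaf 0x0) (.leaf 0x0)) (.node 165 (.leaf 0x0) (.leaf 0x0))) (.node 168 (.node 167 (.leaf 0x0) (.leaf 0x0)) (.node 169 (.leaf 0x0) (.leaf 0x0))))) (.node 178 (.node 174 (.node 172 (.node 171 (.leaf 0x0) (.leaf 0x0)) (.node 173 (.leaf 0x0) (.leaf 0x0))) (.node 176 (.node 175 (.leaf 0x0) (.leaf 0x0)) (.node 177 (.leaf 0x0) (.leaf 0x0)))) (.node 182 (.node 180 (.node 179 (.leaf 0x0) (.leaf 0x0)) (.node 181 (.leaf 0x0) (.leaf 0x0))) (.node 184 (.node 183 (.leaf 0x0) (.leaf 0x0)) (.node 185 (.leaf 0x0) (.leaf 0x0))))))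

def posStore8_10 : Store := (.node 155 posStore8_8 posStore8_9)

def posStore8_11 : Store := (.node 201 (.node 193 (.node 189 (.node 187 (.leaf 0x0) (.node 188 (.leaf 0x0) (.leaf 0x0))) (.node 191 (.node 190 (.leaf 0x0) (.leaf 0x0)) (.node 192 (.leaf 0x0) (.leaf 0x0)))) (.node 197 (.node 195 (.node 194 (.leaf 0x0) (.leaf 0x0)) (.node 196 (.leaf 0x0) (.leaf 0x0))) (.node 199 (.node 198 (.leaf 0x0) (.leaf 0x0)) (.node 200 (.leaf 0x0) (.leaf 0x0))))) (.node 209 (.node 205 (.node 203 (.node 202 (.leaf 0x0) (.leaf 0x0)) (.node 204 (.leaf 0x0) (.leaf 0x0))) (.node 207 (.node 206 (.leaf 0x0) (.leaf 0x0)) (.node 208 (.leaf 0x0) (.leaf 0x0)))) (.node 213 (.node 211 (.node 210 (.leaf 0x0) (.leaf 0x0)) (.node 212 (.leaf 0x0) (.leaf 0x0))) (.node 215 (.node 214 (.leaf 0x0) (.leaf 0x0)) (.node 216 (.leaf 0x0) (.leaf 0x0))))))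

def posStore8_12 : Store := (.node 232 (.node 224 (.node 220 (.node 218 (.leaf 0x0) (.node 219 (.leaf 0x0) (.leaf 0x0))) (.node 222 (.node 221 (.leaf 0x0) (.leaf 0x0)) (.node 223 (.leaf 0x0) (.leaf 0x0)))) (.node 228 (.node 226 (.node 225 (.leaf 0x0) (.leaf 0x0)) (.node 227 (.leaf 0x0) (.leaf 0x0))) (.node 230 (.node 229 (.leaf 0x0) (.leaf 0x0)) (.node 231 (.leaf 0x0) (.leaf 0x0))))) (.node 240 (.node 236 (.node 234 (.node 233 (.leaf 0x0) (.leaf 0x0)) (.node 235 (.leaf 0x0) (.leaf 0x0))) (.node 238 (.node 237 (.leaf 0x0) (.leaf 0x0)) (.node 239 (.leaf 0x0) (.leaf 0x0)))) (.node 244 (.node 242 (.node 241 (.leaf 0x0) (.leaf 0x0)) (.node 243 (.leaf 0x0) (.leaf 0x0))) (.node 246 (.node 245 (.leaf 0x0) (.leaf 0x0)) (.node 247 (.leaf 0x0) (.leaf 0x0))))))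

def posStore8_13 : Store := (.node 217 posStore8_11 posStore8_12)

def posStore8_14 : Store := (.node 186 posStore8_10 posStore8_13)

def posStore8 : Store := (.node 124 posStore8_7 posStore8_14)

end Cfsg.Agent.CosetCert.Fi23H10H
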